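import Cfsg.Agent.H6.MCo1.D
set_option maxRecDepth 100000
set_option Elab.async false
namespace H6M.MCo1
open H0 BN 
theorem c0 : Net.ok (nat_lit 131072) n12 = true := by decide +kernel
theorem c1 : (H6.isA W12 M12 && H6.fxOK (nat_lit 0) W12) = true := by decide +kernel
theorem c2 : H6.plOK (nat_lit 0) (nat_lit 131072) PT M12 n12 = true := by decide +kernel
theorem c3 : H6.outOK (nat_lit 17) (nat_lit 131072) (nat_lit 98280) n12 = true := by decide +kernel
theorem c4 : Net.ok (nat_lit 131072) n11 = true := by decide +kernel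
theorem c5 : (H6.isA W11 M11 && H6.fxOK (nat_lit 0) W11) = true := by decide +kernel
theorem c6 : H6.plOK (nat_lit 0) (nat_lit 131072) PT M11 n11 = true := by decide +kernel
theorem c7 : H6.outOK (nat_lit 17) (nat_lit 131072) (nat_lit 98280) n11 = true := by decide +kernel
theorem c8 : Net.ok (nat_lit 131072) n10 = true := by decide +kernel
theorem c9 : (H6.isA W10 M10 && H6.fxOK (nat_lit 0) W10) = true := by decide +kernel
theorem c10 : H6.plOK (nat_lit 0) (nat_lit 131072) PT M10 n10 = true := by decide +kernel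
theorem c11 : H6.outOK (nat_lit 17) (nat_lit 131072) (nat_lit 98280) n10 = true := by decide +kernel
theorem c12 : Net.ok (nat_lit 131072) n9 = true := by decide +kernel
theorem c13 : (H6.isA W9 M9 && H6.fxOK (nat_lit 0) W9) = true := by decide +kernel
theorem c14 : H6.plOK (nat_lit 0) (nat_lit 131072) PT M9 n9 = true := by decide +kernel
theorem c15 : H6.outOK (nat_lit 17) (nat_lit 131072) (nat_lit 98280) n9 = true := by decide +kernel
theorem c16 : Net.ok (nat_lit 131072) n8 = true := by decide +kernel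
theorem c17 : (H6.isA W8 M8 && H6.fxOK (nat_lit 0) W8) = true := by decide +kernel
theorem c18 : H6.plOK (nat_lit 0) (nat_lit 131072) PT M8 n8 = true := by decide +kernel
theorem c19 : H6.outOK (nat_lit 17) (nat_lit 131072) (nat_lit 98280) n8 = true := by decide +kernel
theorem c20 : Net.ok (nat_lit 131072) n7 = true := by decide +kernel
theorem c21 : (H6.isA W7 M7 && H6.fxOK (nat_lit 0) W7) = true := by decide +kernel
theorem c22 : H6.plOK (nat_lit 0) (nat_lit 131072) PT M7 n7 = true := by decide +kernel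
theorem c23 : H6.outOK (nat_lit 17) (nat_lit 131072) (nat_lit 98280) n7 = true := by decide +kernel
theorem c24 : Net.ok (nat_lit 131072) n6 = true := by decide +kernel
theorem c25 : (H6.isA W6 M6 && H6.fxOK (nat_lit 0) W6) = true := by decide +kernel
theorem c26 : H6.plOK (nat_lit 0) (nat_lit 131072) PT M6 n6 = true := by decide +kernel
theorem c27 : H6.outOK (nat_lit 17) (nat_lit 131072) (nat_lit 98280) n6 = true := by decide +kernel
theorem c28 : Net.ok (nat_lit 131072) n5 = true := by decide +kernel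
theorem c29 : (H6.isA W5 M5 && H6.fxOK (nat_lit 0) W5) = true := by decide +kernel
theorem c30 : H6.plOK (nat_lit 0) (nat_lit 131072) PT M5 n5 = true := by decide +kernel
theorem c31 : H6.outOK (nat_lit 17) (nat_lit 131072) (nat_lit 98280) n5 = true := by decide +kernel
theorem c32 : Net.ok (nat_lit 131072) n4 = true := by decide +kernel
theorem c33 : (H6.isA W4 M4 && H6.fxOK (nat_lit 0) W4) = true := by decide +kernel
theorem c34 : H6.plOK (nat_lit 0) (nat_lit 131072) PT M4 n4 = true := by decide +kernel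
theorem c35 : H6.outOK (nat_lit 17) (nat_lit 131072) (nat_lit 98280) n4 = true := by decide +kernel
theorem c36 : Net.ok (nat_lit 131072) n3 = true := by decide +kernel
theorem c37 : (H6.isA W3 M3 && H6.fxOK (nat_lit 0) W3) = true := by decide +kernel
theorem c38 : H6.plOK (nat_lit 0) (nat_lit 131072) PT M3 n3 = true := by decide +kernel
theorem c39 : H6.outOK (nat_lit 17) (nat_lit 131072) (nat_lit 98280) n3 = true := by decide +kernel
theorem c40 : Net.ok (nat_lit 131072) n2 = true := by decide +kernel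
theorem c41 : (H6.isA W2 M2 && H6.fxOK (nat_lit 0) W2) = true := by decide +kernel
theorem c42 : H6.plOK (nat_lit 0) (nat_lit 131072) PT M2 n2 = true := by decide +kernel
theorem c43 : H6.outOK (nat_lit 17) (nat_lit 131072) (nat_lit 98280) n2 = true := by decide +kernel
theorem c44 : Net.ok (nat_lit 131072) n1 = true := by decide +kernel
theorem c45 : (H6.isA W1 M1 && H6.fxOK (nat_lit 0) W1) = true := by decide +kernel
theorem c46 : H6.plOK (nat_lit 0) (nat_lit 131072) PT M1 n1 = true := by decide +kernel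
theorem c47 : H6.outOK (nat_lit 17) (nat_lit 131072) (nat_lit 98280) n1 = true := by decide +kernel
theorem c48 : Net.ok (nat_lit 131072) n0 = true := by decide +kernel
theorem c49 : (H6.isA W0 M0 && H6.fxOK (nat_lit 0) W0) = true := by decide +kernel
theorem c50 : H6.plOK (nat_lit 0) (nat_lit 131072) PT M0 n0 = true := by decide +kernel
theorem c51 : H6.outOK (nat_lit 17) (nat_lit 131072) (nat_lit 98280) n0 = true := by decide +kernel
theorem c52 : H6.allL (H6.uqOK (nat_lit 0) R.N (nat_lit 98280) PT) [0] = true := by decide +kernel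
theorem c53 : grow R (fun T => Nat.beq (Nat.land T (ival 0 (nat_lit 98280))) (ival 0 (nat_lit 98280))) [[0], [1], [2], [0], [1], [2], [0], [1], [2], [0], [1], [2], [0], [1], [2], [0], [1], [2], [0], [1], [2], [0], [1], [2], [0], [1], [2], [1]] (H6.orL [0]) = true := by decide +kernel
theorem c54 : Model.fixP R [27506, 4601, 98279, 0] [[9], [10]] = true := by decide +kernel
theorem c55 : Model.growP R [[9], [10]] [0, 1, 0] 276 6 = true := by decide +kernel
theorem c56 : Model.fixP R [4601, 98279, 0] [[7], [8]] = true := by decide +kernel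
theorem c57 : Model.growP R [[7], [8]] [0, 1, 0, 1, 0, 1, 0, 1, 0, 1, 0, 1, 0, 1, 0, 1, 0, 1, 0, 1, 0, 1, 0] 27506 6720 = true := by decide +kernel
theorem c58 : Model.fixP R [98279, 0] [[5], [6]] = true := by decide +kernel
theorem c59 : Model.growP R [[5], [6]] [0, 1, 0, 1, 0, 1, 0, 1, 0, 1, 0, 1, 0, 1, 0, 1, 0, 1, 0, 1, 0, 1, 0, 1, 0] 4601 22275 = true := by decide +kernel
theorem c60 : Model.fixP R [0] [[3], [4]] = true := by decide +kernel
theorem c61 : Model.growP R [[3], [4]] [0, 1, 0, 1, 0, 1, 0, 1, 0, 1, 0, 1, 0, 1, 0, 1, 0, 1, 0, 1, 0, 1, 0, 1, 0, 1, 0, 0, 0] 98279 47104 = true := by decide +kernel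
theorem c62 : Model.fixP R [] [[0], [1], [2]] = true := by decide +kernel
theorem c63 : Model.growP R [[0], [1], [2]] [0, 1, 2, 0, 1, 2, 0, 1, 2, 0, 1, 2, 0, 1, 2, 0, 1, 2, 0, 1, 2, 0, 1, 2, 0, 1, 2, 1] 0 98280 = true := by decide +kernel
theorem ptU : H6.ptOK (nat_lit 0) (nat_lit 131072) (nat_lit 98280) PT tU 0 = true := by decide +kernel
theorem c65 : Model.growP R [[0], [1], [2]] [0, 1, 2, 0, 1, 2, 0, 1, 2, 0, 1, 2, 0, 1, 2, 0, 1, 2, 0, 1, 2, 0, 1, 2, 0, 1, 2, 1] 0 98280 = true := by decide +kernel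
theorem ptA16 : H6.ptOK (nat_lit 0) (nat_lit 131072) (nat_lit 98280) PT tA16 843 = true := by decide +kernel
theorem c67 : Model.growP R [[3], [4]] [0, 1, 0, 1, 0, 1, 0, 1, 0, 1, 0, 1, 0, 1, 0, 1, 0, 1, 0, 1, 0, 1, 0, 0, 0] 843 4600 = true := by decide +kernel
theorem ptUV : H6.ptOK (nat_lit 0) (nat_lit 131072) (nat_lit 98280) PT tUV 98279 = true := by decide +kernel
theorem c69 : Model.growP R [[3], [4]] [0, 1, 0, 1, 0, 1, 0, 1, 0, 1, 0, 1, 0, 1, 0, 1, 0, 1, 0, 1, 0, 1, 0, 1, 0, 1, 0, 0, 0] 98279 47104 = true := by decide +kernel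
theorem ptA0 : H6.ptOK (nat_lit 0) (nat_lit 131072) (nat_lit 98280) PT tA0 50082 = true := by decide +kernel
theorem c71 : Model.growP R [[3], [4]] [0, 1, 0, 1, 0, 1, 0, 1, 0, 1, 0, 1, 0, 1, 0, 1, 0, 1, 0, 1, 0, 1, 0, 1, 0, 1, 0, 0, 0] 50082 46575 = true := by decide +kernel
theorem ptB24 : H6.ptOK (nat_lit 0) (nat_lit 131072) (nat_lit 98280) PT tB24 0 = true := by decide +kernel
theorem c73 : Model.growP R [[5], [6], [12]] [2, 0, 1, 2, 0, 2, 1, 0, 2, 1, 0, 2, 1, 2] 0 552 = true := by decide +kernel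
theorem ptB16 : H6.ptOK (nat_lit 0) (nat_lit 131072) (nat_lit 98280) PT tB16 50082 = true := by decide +kernel
theorem c75 : Model.growP R [[5], [6], [12]] [0, 1, 2, 0, 1, 2, 0, 1, 2, 0, 1, 2, 0, 1, 2, 0, 1, 2, 0] 50082 11178 = true := by decide +kernel
theorem ptB8 : H6.ptOK (nat_lit 0) (nat_lit 131072) (nat_lit 98280) PT tB8 843 = true := by decide +kernel
theorem c77 : Model.growP R [[5], [6], [12]] [0, 1, 2, 0, 1, 2, 0, 1, 2, 0, 1, 2, 0, 1, 2, 0, 1, 2, 0, 1, 2] 843 48600 = true := by decide +kernel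
theorem ptB0 : H6.ptOK (nat_lit 0) (nat_lit 131072) (nat_lit 98280) PT tB0 4438 = true := by decide +kernel
theorem c79 : Model.growP R [[5], [6], [12]] [0, 1, 2, 0, 1, 2, 0, 1, 2, 0, 1, 2, 0, 1, 2, 0, 1, 2, 0, 1, 0] 4438 37950 = true := by decide +kernel
theorem f2 : H6.fixA Ws [3, 4] H6.tU = true := by decide +kernel
theorem f3 : H6.fixA Ws [5, 6, 12] H6.tV = true := by decide +kernel
theorem c82 : pairsB R [276, 27506, 4601, 98279, 0] (((H6.defsE defs 3).drop 0).take 2) = true := by decide +kernel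
theorem c83 : pairsB R [276, 27506, 4601, 98279, 0] (((H6.defsE defs 3).drop 2).take 3) = true := by decide +kernel
theorem c84 : pairsB R [276, 27506, 4601, 98279, 0] (((H6.defsE defs 3).drop 5).take 4) = true := by decide +kernel
theorem c85 : Model.fixW R [276, 27506, 4601, 98279, 0] ((B0.drop 0).take 3) = true := by decide +kernel
theorem c86 : Model.growW R [[0], [1], [2]] [0, 1, 2, 0, 1, 2, 0, 1, 2, 0, 1, 2, 0, 1, 2, 0, 1, 2, 0, 1, 2, 0, 1, 2, 0, 1, 2, 1] (Nat.pow 2 0) (ival 0 98280) = true := by decide +kernel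
theorem c87 : Model.invW R [[0], [1], [2]] 0 98280 = true := by decide +kernel
theorem c88 : Model.fixW R [0] [[3], [4]] = true := by decide +kernel
theorem c89 : Model.growW R [[3], [4]] [0, 1, 0, 1, 0, 1, 0, 1, 0, 1, 0, 1, 0, 1, 0, 1, 0, 1, 0, 1, 0, 1, 0] (Nat.pow 2 4515) (ival 1 4600) = true := by decide +kernel
theorem c90 : mapsW R [0] (Nat.pow 2 0) (Nat.pow 2 4515) = true := by decide +kernel
theorem c91 : Model.growW R [[0], [3], [4]] [0, 1, 2, 0, 1, 2, 1, 0, 2, 1, 0, 2, 1, 0, 2, 1, 0, 2, 1, 0, 2, 1, 2, 0, 1, 0] (Nat.pow 2 0) (ival 0 98280) = true := by decide +kernel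
theorem c92 : Model.growW R [[3], [4]] [0, 1, 0, 1, 0, 1, 0, 1, 0, 1, 0, 1, 0, 1, 0, 1, 0, 1, 0, 1, 0, 1, 0, 1, 0, 1, 0, 0, 0] (Nat.pow 2 27108) (ival 4601 46575) = true := by decide +kernel
theorem c93 : mapsW R [2] (Nat.pow 2 0) (Nat.pow 2 27108) = true := by decide +kernel
theorem c94 : Model.growW R [[2], [3], [4]] [0, 1, 2, 0, 1, 2, 0, 1, 2, 0, 1, 2, 1, 0, 2, 1, 0, 2, 1, 0, 2, 1, 0, 2, 1, 0] (Nat.pow 2 0) (ival 0 98280) = true := by decide +kernel
theorem c95 : Model.growW R [[3], [4]] [0, 1, 0, 1, 0, 1, 0, 1, 0, 1, 0, 1, 0, 1, 0, 1, 0, 1, 0, 1, 0, 1, 0, 1, 0, 1, 0, 0] (Nat.pow 2 54360) (ival 51176 47104) = true := by decide +kernel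
theorem c96 : mapsW R [1, 0, 2] (Nat.pow 2 0) (Nat.pow 2 54360) = true := by decide +kernel
theorem c97 : Model.growW R [[1, 0, 2], [3], [4]] [0, 0, 1, 2, 0, 1, 2, 0, 1, 2, 0, 1, 2, 0, 1, 2, 0, 1, 2, 0, 1, 2, 0, 0] (Nat.pow 2 0) (ival 0 98280) = true := by decide +kernel
theorem c98 : Model.fixW R [276, 27506, 4601, 98279, 0] ((ngR.drop 0).take 2) = true := by decide +kernel
theorem c99 : Model.fixW R [276, 27506, 4601, 98279, 0] ((ngR.drop 2).take 2) = true := by decide +kernel
theorem c100 : Model.fixW R [276, 27506, 4601, 98279, 0] ((ngR.drop 4).take 2) = true := by decide +kernel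
theorem c101 : Model.fixW R [276, 27506, 4601, 98279, 0] ((xR.drop 0).take 1) = true := by decide +kernel
end H6M.MCo1
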