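import Cfsg.Agent.H6.MCo1.K0
set_option maxRecDepth 100000
set_option Elab.async false
namespace H6M.MCo1
open H0 BN 
theorem good : H6.Good D Ws nl := (List.Forall₂.cons (H6.good (by decide +kernel) (by decide +kernel) c48 c49 c50 c51) (List.Forall₂.cons (H6.good (by decide +kernel) (by decide +kernel) c44 c45 c46 c47) (List.Forall₂.cons (H6.good (by decide +kernel) (by decide +kernel) c40 c41 c42 c43) (List.Forall₂.cons (H6.good (by decide +kernel) (by decide +kernel) c36 c37 c38 c39) (List.Forall₂.cons (H6.good (by decide +kernel) (by decide +kernel) c32 c33 c34 c35) (List.Forall₂.cons (H6.good (by decide +kernel) (by decide +kernel) c28 c29 c30 c31) (List.Forall₂.cons (H6.good (by decide +kernel) (by decide +kernel) c24 c25 c26 c27) (List.Forall₂.cons (H6.good (by decide +kernel) (by decide +kernel) c20 c21 c22 c23) (List.Forall₂.cons (H6.good (by decide +kernel)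 (by decide +kernel) c16 c17 c18 c19) (List.Forall₂.cons (H6.good (by decide +kernel) (by decide +kernel) c12 c13 c14 c15) (List.Forall₂.cons (H6.good (by decide +kernel) (by decide +kernel) c8 c9 c10 c11) (List.Forall₂.cons (H6.good (by decide +kernel) (by decide +kernel) c4 c5 c6 c7) (List.Forall₂.cons (H6.good (by decide +kernel) (by decide +kernel) c0 c1 c2 c3) List.Forall₂.nil)))))))))))))
theorem cmp (x : ℕ) : D.Cmp (H6.gL Ws x) (R.p x) := good.cmp' x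
theorem dinj : D.Inj := H6.ld_inj (R := R) cmp (by decide +kernel) [0] c52 [[0], [1], [2], [0], [1], [2], [0], [1], [2], [0], [1], [2], [0], [1], [2], [0], [1], [2], [0], [1], [2], [0], [1], [2], [0], [1], [2], [1]] c53
section
variable {G : Type} [Group G] [Finite G] (m0 : Model G) (h0 : m0.R = R)
include h0
theorem ch_ok : m0.ChainOK ch [] := (m0.chain_cons [0, 1, 2, 0, 1, 2, 0, 1, 2, 0, 1, 2, 0, 1, 2, 0, 1, 2, 0, 1, 2, 0, 1, 2, 0, 1, 2, 1] (Model.via _ h0 (fun R => Model.fixP R [] [[0], [1], [2]]) c62) (Model.via _ h0 (fun R => Model.growP R [[0], [1], [2]] [0, 1, 2, 0, 1, 2, 0, 1, 2, 0, 1, 2, 0, 1, 2, 0, 1, 2, 0, 1, 2, 0, 1, 2, 0, 1, 2, 1] 0 98280) c63) (m0.chain_cons [0, 1, 0, 1, 0, 1, 0, 1, 0, 1, 0, 1, 0, 1, 0, 1, 0, 1, 0, 1, 0, 1, 0, 1, 0, 1, 0, 0, 0] (Model.via _ h0 (fun R => Model.fixP R [0] [[3], [4]]) c60) (Model.via _ h0 (fun R => Model.growP R [[3],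 [4]] [0, 1, 0, 1, 0, 1, 0, 1, 0, 1, 0, 1, 0, 1, 0, 1, 0, 1, 0, 1, 0, 1, 0, 1, 0, 1, 0, 0, 0] 98279 47104) c61) (m0.chain_cons [0, 1, 0, 1, 0, 1, 0, 1, 0, 1, 0, 1, 0, 1, 0, 1, 0, 1, 0, 1, 0, 1, 0, 1, 0] (Model.via _ h0 (fun R => Model.fixP R [98279, 0] [[5], [6]]) c58) (Model.via _ h0 (fun R => Model.growP R [[5], [6]] [0, 1, 0, 1, 0, 1, 0, 1, 0, 1, 0, 1, 0, 1, 0, 1, 0, 1, 0, 1, 0, 1, 0, 1, 0] 4601 22275) c59) (m0.chain_cons [0, 1, 0, 1, 0, 1, 0, 1, 0, 1, 0, 1, 0, 1, 0, 1, 0, 1, 0, 1, 0, 1, 0] (Model.via _ h0 (fun R => Model.fixP R [4601, 98279, 0] [[7], [8]]) c56) (Model.via _ h0 (fun R => Model.growP R [[7], [8]] [0, 1, 0, 1, 0, 1, 0, 1, 0, 1, 0, 1, 0, 1, 0, 1, 0, 1, 0, 1, 0, 1, 0] 27506 6720) c57) (m0.chain_cons [0, 1, 0] (Model.via _ h0 (fun R => Model.fixP R [27506, 4601, 98279, 0] [[9], [10]]) c54) (Model.via _ h0 (fun R => Model.growP R [[9], [10]] [0, 1,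 0] 276 6) c55) (m0.chain_nil _))))))
theorem low : 4157776806543360000 * Nat.card (m0.pst [276, 27506, 4601, 98279, 0]) ≤ Nat.card G := H6.chain_low m0 (ch_ok m0 h0)
theorem oU : 98280 ≤ (m0.orb (gen m0.g [[0], [1], [2]]) 0).ncard := m0.orbGe [0, 1, 2, 0, 1, 2, 0, 1, 2, 0, 1, 2, 0, 1, 2, 0, 1, 2, 0, 1, 2, 0, 1, 2, 0, 1, 2, 1] (Model.via _ h0 (fun R => Model.growP R [[0], [1], [2]] [0, 1, 2, 0, 1, 2, 0, 1, 2, 0, 1, 2, 0, 1, 2, 0, 1, 2, 0, 1, 2, 0, 1, 2, 0, 1, 2, 1] 0 98280) c65)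
theorem oA16 : 4600 ≤ (m0.orb (gen m0.g [[3], [4]]) 843).ncard := m0.orbGe [0, 1, 0, 1, 0, 1, 0, 1, 0, 1, 0, 1, 0, 1, 0, 1, 0, 1, 0, 1, 0, 1, 0, 0, 0] (Model.via _ h0 (fun R => Model.growP R [[3], [4]] [0, 1, 0, 1, 0, 1, 0, 1, 0, 1, 0, 1, 0, 1, 0, 1, 0, 1, 0, 1, 0, 1, 0, 0, 0] 843 4600) c67)
theorem oUV : 47104 ≤ (m0.orb (gen m0.g [[3], [4]]) 98279).ncard := m0.orbGe [0, 1, 0, 1, 0, 1, 0, 1, 0, 1, 0, 1, 0, 1, 0, 1, 0, 1, 0, 1, 0, 1, 0, 1, 0, 1, 0, 0, 0] (Model.via _ h0 (fun R => Model.growP R [[3], [4]] [0, 1, 0, 1, 0, 1, 0, 1, 0, 1, 0, 1, 0, 1, 0, 1, 0, 1, 0, 1, 0, 1, 0, 1, 0, 1, 0, 0, 0] 98279 47104) c69)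
theorem oA0 : 46575 ≤ (m0.orb (gen m0.g [[3], [4]]) 50082).ncard := m0.orbGe [0, 1, 0, 1, 0, 1, 0, 1, 0, 1, 0, 1, 0, 1, 0, 1, 0, 1, 0, 1, 0, 1, 0, 1, 0, 1, 0, 0, 0] (Model.via _ h0 (fun R => Model.growP R [[3], [4]] [0, 1, 0, 1, 0, 1, 0, 1, 0, 1, 0, 1, 0, 1, 0, 1, 0, 1, 0, 1, 0, 1, 0, 1, 0, 1, 0, 0, 0] 50082 46575) c71)
theorem oB24 : 552 ≤ (m0.orb (gen m0.g [[5], [6], [12]]) 0).ncard := m0.orbGe [2, 0, 1, 2, 0, 2, 1, 0, 2, 1, 0, 2, 1, 2] (Model.via _ h0 (fun R => Model.growP R [[5], [6], [12]] [2, 0, 1, 2, 0, 2, 1, 0, 2, 1, 0, 2, 1, 2] 0 552) c73)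
theorem oB16 : 11178 ≤ (m0.orb (gen m0.g [[5], [6], [12]]) 50082).ncard := m0.orbGe [0, 1, 2, 0, 1, 2, 0, 1, 2, 0, 1, 2, 0, 1, 2, 0, 1, 2, 0] (Model.via _ h0 (fun R => Model.growP R [[5], [6], [12]] [0, 1, 2, 0, 1, 2, 0, 1, 2, 0, 1, 2, 0, 1, 2, 0, 1, 2, 0] 50082 11178) c75)
theorem oB8 : 48600 ≤ (m0.orb (gen m0.g [[5], [6], [12]]) 843).ncard := m0.orbGe [0, 1, 2, 0, 1, 2, 0, 1, 2, 0, 1, 2, 0, 1, 2, 0, 1, 2, 0, 1, 2] (Model.via _ h0 (fun R => Model.growP R [[5], [6], [12]] [0, 1, 2, 0, 1, 2, 0, 1, 2, 0, 1, 2, 0, 1, 2, 0, 1, 2, 0, 1, 2] 843 48600) c77)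
theorem oB0 : 37950 ≤ (m0.orb (gen m0.g [[5], [6], [12]]) 4438).ncard := m0.orbGe [0, 1, 2, 0, 1, 2, 0, 1, 2, 0, 1, 2, 0, 1, 2, 0, 1, 2, 0, 1, 0] (Model.via _ h0 (fun R => Model.growP R [[5], [6], [12]] [0, 1, 2, 0, 1, 2, 0, 1, 2, 0, 1, 2, 0, 1, 2, 0, 1, 2, 0, 1, 0] 4438 37950) c79)
end
variable {G : Type} [Group G] (P : H6.MC G R 4157776806543360000)
def m : Model G := P.m
include P
theorem mR : (m P).R = R := P.hR
theorem card : Nat.card G = 4157776806543360000 := P.card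
theorem fin : Finite G := Nat.finite_of_card_ne_zero (by rw [card P]; decide)
theorem base : (m P).pst [276, 27506, 4601, 98279, 0] = ⊥ := haveI := fin P; (m P).chain_bot (ch_ok _ (mR P)) (card P)
theorem inj : Function.Injective (m P).φ := (m P).inj_of_base (base P)
theorem dfs : ∀ e ∈ H6.defsE defs 3, ev (m P).g e.1 = ev (m P).g e.2 := all_take_done (all_take_step (all_take_step (all_take_step (all_take_zero _ (H6.defsE defs 3)) ((m P).pairs_of (base P) (Model.via _ (mR P) (fun R => pairsB R [276, 27506, 4601, 98279, 0] (((H6.defsE defs 3).drop 0).take 2)) c82))) ((m P).pairs_of (base P) (Model.via _ (mR P) (fun R => pairsB R [276, 27506, 4601, 98279, 0] (((H6.defsE defs 3).drop 2).take 3)) c83))) ((m P).pairs_of (base P) (Model.via _ (mR P) (fun R => pairsB R [276, 27506, 4601, 98279, 0] (((H6.defsE defs 3).drop 5).take 4)) c84))) (by decide +kernel)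
theorem top : gen (m P).g (lets 3) = ⊤ :=
  haveI := fin P; H6.top_of_defs defs 3 (dfs P) (by decide +kernel) ((m P).chain_top (ch_ok _ (mR P)) (card P)) (by decide +kernel)
theorem hi : ∀ x < 3, (m P).g x * (m P).g (inv x) = 1 := inv_of_invChk (all_take_done (all_take_step (all_take_zero _ B0) ((m P).ev_one_of_base (base P) (Model.via _ (mR P) (fun R => Model.fixW R [276, 27506, 4601, 98279, 0] ((B0.drop 0).take 3)) c85))) (by decide +kernel)) (by decide +kernel)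
theorem trans : (m P).orb ⊤ 0 = Set.Ico 0 (0 + 98280) :=
  (m P).orb_eq_ico' ((m P).inOrb_mono le_top ((m P).inOrb_grow [0, 1, 2, 0, 1, 2, 0, 1, 2, 0, 1, 2, 0, 1, 2, 0, 1, 2, 0, 1, 2, 0, 1, 2, 0, 1, 2, 1] ((m P).inOrb_self _ 0) (Model.via _ (mR P) (fun R => Model.growW R [[0], [1], [2]] [0, 1, 2, 0, 1, 2, 0, 1, 2, 0, 1, 2, 0, 1, 2, 0, 1, 2, 0, 1, 2, 0, 1, 2, 0, 1, 2, 1] (Nat.pow 2 0) (ival 0 98280)) c86))) (top P).ge (Model.via _ (mR P) (fun R => Model.invW R [[0], [1], [2]] 0 98280) c87) (by decide)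
theorem sub1 : (m P).InOrb (gen (m P).g [[3], [4]]) 4515 (ival 1 4600) := ((m P).inOrb_grow [0, 1, 0, 1, 0, 1, 0, 1, 0, 1, 0, 1, 0, 1, 0, 1, 0, 1, 0, 1, 0, 1, 0] ((m P).inOrb_self _ 4515) (Model.via _ (mR P) (fun R => Model.growW R [[3], [4]] [0, 1, 0, 1, 0, 1, 0, 1, 0, 1, 0, 1, 0, 1, 0, 1, 0, 1, 0, 1, 0, 1, 0] (Nat.pow 2 4515) (ival 1 4600)) c89))
theorem sub4601 : (m P).InOrb (gen (m P).g [[3], [4]]) 27108 (ival 4601 46575) := ((m P).inOrb_grow [0, 1, 0, 1, 0, 1, 0, 1, 0, 1, 0, 1, 0, 1, 0, 1, 0, 1, 0, 1, 0, 1, 0, 1, 0, 1, 0, 0, 0] ((m P).inOrb_self _ 27108) (Model.via _ (mR P) (fun R => Model.growW R [[3], [4]] [0, 1, 0, 1, 0, 1, 0, 1, 0, 1, 0, 1, 0, 1, 0, 1, 0, 1, 0, 1, 0, 1, 0, 1, 0, 1, 0, 0, 0] (Nat.pow 2 27108) (ival 4601 46575)) c92))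
theorem sub51176 : (m P).InOrb (gen (m P).g [[3], [4]]) 54360 (ival 51176 47104) := ((m P).inOrb_grow [0, 1, 0, 1, 0, 1, 0, 1, 0, 1, 0, 1, 0, 1, 0, 1, 0, 1, 0, 1, 0, 1, 0, 1, 0, 1, 0, 0] ((m P).inOrb_self _ 54360) (Model.via _ (mR P) (fun R => Model.growW R [[3], [4]] [0, 1, 0, 1, 0, 1, 0, 1, 0, 1, 0, 1, 0, 1, 0, 1, 0, 1, 0, 1, 0, 1, 0, 1, 0, 1, 0, 0] (Nat.pow 2 54360) (ival 51176 47104)) c95))
theorem coatom : IsCoatom ((m P).pst [0]) := (m P).coatom (trans P) (by decide) ((m P).maxUpTo_step ((m P).maxUpTo_step ((m P).maxUpTo_step ((m P).maxUpTo_one 98280) (Model.via _ (mR P) (fun R => Model.fixW R [0] [[3], [4]]) c88) (sub1 P) (Model.via _ (mR P) (fun R => Nat.ble (1 + 4600) R.N) (by decide +kernel)) (Model.via _ (mR P) (fun R => Nat.ble (0 + 98280) R.N) (by decide +kernel)) (Model.via _ (mR P) (fun R => mapsW R [0] (Nat.pow 2 0) (Nat.pow 2 4515)) c90) ((m P).inOrb_grow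 [0, 1, 2, 0, 1, 2, 1, 0, 2, 1, 0, 2, 1, 0, 2, 1, 0, 2, 1, 0, 2, 1, 2, 0, 1, 0] ((m P).inOrb_self _ 0) (Model.via _ (mR P) (fun R => Model.growW R [[0], [3], [4]] [0, 1, 2, 0, 1, 2, 1, 0, 2, 1, 0, 2, 1, 0, 2, 1, 0, 2, 1, 0, 2, 1, 2, 0, 1, 0] (Nat.pow 2 0) (ival 0 98280)) c91))) (Model.via _ (mR P) (fun R => Model.fixW R [0] [[3], [4]]) c88) (sub4601 P) (Model.via _ (mR P) (fun R => Nat.ble (4601 + 46575) R.N) (by decide +kernel)) (Model.via _ (mR P) (fun R => Nat.ble (0 + 98280) R.N) (by decide +kernel)) (Model.via _ (mR P) (fun R => mapsW R [2] (Nat.pow 2 0) (Nat.pow 2 27108)) c93) ((m P).inOrb_grow [0, 1, 2, 0, 1, 2, 0, 1, 2, 0, 1, 2, 1, 0, 2, 1, 0, 2, 1, 0, 2, 1, 0, 2, 1, 0] ((m P).inOrb_self _ 0) (Model.via _ (mR P) (fun R => Model.growW R [[2], [3], [4]] [0, 1, 2, 0, 1, 2, 0, 1, 2, 0, 1, 2, 1, 0, 2, 1, 0, 2, 1, 0, 2, 1, 0, 2, 1, 0] (Nat.pow 2 0) (ival 0 98280))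 c94))) (Model.via _ (mR P) (fun R => Model.fixW R [0] [[3], [4]]) c88) (sub51176 P) (Model.via _ (mR P) (fun R => Nat.ble (51176 + 47104) R.N) (by decide +kernel)) (Model.via _ (mR P) (fun R => Nat.ble (0 + 98280) R.N) (by decide +kernel)) (Model.via _ (mR P) (fun R => mapsW R [1, 0, 2] (Nat.pow 2 0) (Nat.pow 2 54360)) c96) ((m P).inOrb_grow [0, 0, 1, 2, 0, 1, 2, 0, 1, 2, 0, 1, 2, 0, 1, 2, 0, 1, 2, 0, 1, 2, 0, 0] ((m P).inOrb_self _ 0) (Model.via _ (mR P) (fun R => Model.growW R [[1, 0, 2], [3], [4]] [0, 0, 1, 2, 0, 1, 2, 0, 1, 2, 0, 1, 2, 0, 1, 2, 0, 1, 2, 0, 1, 2, 0, 0] (Nat.pow 2 0) (ival 0 98280)) c97)))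
theorem ng : ∀ N : Subgroup G, N.Normal → ev (m P).g [11] ∈ N → N = ⊤ :=
  ng_top (hi P) ngSt [11] (by decide) (all_take_done (all_take_step (all_take_step (all_take_step (all_take_zero _ ngR) ((m P).ev_one_of_base (base P) (Model.via _ (mR P) (fun R => Model.fixW R [276, 27506, 4601, 98279, 0] ((ngR.drop 0).take 2)) c98))) ((m P).ev_one_of_base (base P) (Model.via _ (mR P) (fun R => Model.fixW R [276, 27506, 4601, 98279, 0] ((ngR.drop 2).take 2)) c99))) ((m P).ev_one_of_base (base P) (Model.via _ (mR P) (fun R => Model.fixW R [276, 27506, 4601, 98279, 0] ((ngR.drop 4).take 2)) c100))) (by decide +kernel)) (top P) (by decide)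
theorem card_stab : Nat.card ((m P).pst [0]) = 42305421312000 := (m P).card_stab (trans P) (by rw [card P]) (by decide)
theorem simple : IsSimpleGroup G :=
  haveI := fin P
  simple_of_coatom _ (coatom P) (fun N hN h => (m P).normal_le_stab (trans P) (base P) (by decide) N h)
    (ev (m P).g [11]) 13 (by rw [← ev_wpow]; exact (all_take_done (all_take_step (all_take_zero _ xR) ((m P).ev_one_of_base (base P) (Model.via _ (mR P) (fun R => Model.fixW R [276, 27506, 4601, 98279, 0] ((xR.drop 0).take 1)) c101))) (by decide +kernel)) _ (List.mem_singleton_self _))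
    (by rw [card_stab P]; decide +kernel) (ng P)
end H6M.MCo1
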